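import Groth.Agent.L18.Frame
import Mathlib.CategoryTheory.Adjunction.Mates

/-!
# Pulling sections back along composites
-/

set_option autoImplicit false
set_option linter.style.haveILetI false
set_option backward.isDefEq.respectTransparency.types false
set_option backward.isDefEq.respectTransparency false

universe u

open CategoryTheory CategoryTheory.Limits AlgebraicGeometry TopologicalSpace Opposite

noncomputable section

namespace Groth.L19.ProjBdl

open Groth.L18.Frame (rs ro pull IsFrame)

variable {X Y Z : Scheme.{u}}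

theorem pull_comp (f : X ⟶ Y) (g : Y ⟶ Z) (M : Z.Modules) (V : Z.Opens) (m : Γ(M, V)) :
    ((Scheme.Modules.pullbackComp f g).inv.app M).app ((f ≫ g) ⁻¹ᵁ V) (pull (f ≫ g) M V m) =
      pull f ((Scheme.Modules.pullback g).obj M) (g ⁻¹ᵁ V) (pull g M V m) := by
  have h := unit_conjugateEquiv
    ((Scheme.Modules.pullbackPushforwardAdjunction g).comp (Scheme.Modules.pullbackPushforwardAdjunction f))
    (Scheme.Modules.pullbackPushforwardAdjunction (f ≫ g)) (Scheme.Modules.pullbackComp f g).inv M
  rw [Scheme.Modules.conjugateEquiv_pullbackComp_inv] at h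
  exact (congr($(h).app V m)).symm

theorem pull_congr {g g' : X ⟶ Y} (e : g = g') (M : Y.Modules) (V : Y.Opens) (m : Γ(M, V))
    (e' : g' ⁻¹ᵁ V = g ⁻¹ᵁ V) :
    ((Scheme.Modules.pullbackCongr e).inv.app M).app (g' ⁻¹ᵁ V) (pull g' M V m) =
      rs ((Scheme.Modules.pullback g).obj M) e'.le (pull g M V m) := by
  subst e
  exact (congr($((Scheme.Modules.pullback g).obj M |>.presheaf.map_id (op (g ⁻¹ᵁ V))) (pull g M V m))).symm

theorem pull_app (f : X ⟶ Y) {M N : Y.Modules} (φ : M ⟶ N) (V : Y.Opens) (m : Γ(M, V)) :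
    ((Scheme.Modules.pullback f).map φ).app (f ⁻¹ᵁ V) (pull f M V m) = pull f N V (φ.app V m) :=
  congr($((Scheme.Modules.pullbackPushforwardAdjunction f).unit.naturality φ).app V m).symm

/-- Frames are preserved by isomorphisms. -/
theorem isFrame_of_iso {M N : X.Modules} (e : M ≅ N) {W : X.Opens} {s : Γ(M, W)} (hs : IsFrame M W s) :
    IsFrame N W (e.hom.app W s) := fun V h => by
  have : (fun a : Γ(X, V) => a • rs N h (e.hom.app W s)) = e.hom.app V ∘ fun a : Γ(X, V) => a • rs M h s := by
    funext a
    show _ = e.hom.app V (a • rs M h s)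
    rw [Scheme.Modules.Hom.app_smul]
    exact congrArg (a • ·) (congr($(e.hom.mapPresheaf.naturality (homOfLE h).op) s)).symm
  rw [this]
  exact (ConcreteCategory.bijective_of_isIso (e.hom.app V)).comp (hs V h)

end Groth.L19.ProjBdl
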