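import Groth.Agent.L19.ProjBdl.Basis
import Groth.Agent.L19.ProjBdl.PullComp
import Groth.Agent.L21.Mod.Stalks
import Groth.Agent.L18.GenLocus
import Groth.Prelude.Def_KRR

/-!
# The loci where a coordinate of a projective bundle is invertible
-/

set_option autoImplicit false
set_option linter.style.haveILetI false
set_option backward.isDefEq.respectTransparency.types false
set_option backward.isDefEq.respectTransparency false

universe u

open CategoryTheory CategoryTheory.Limits AlgebraicGeometry TopologicalSpace Opposite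

noncomputable section

namespace Groth.L19.ProjBdl

open Groth.L18.Frame (rs ro rs_rs ro_ro rs_smul ro_self rs_self IsFrame pull pull_rs pull_smul isUnit_of_isFrame)

variable {X : Scheme.{u}}

/-- Epimorphisms are locally surjective on sections. -/
theorem exists_local_preimage {M N : X.Modules} (φ : M ⟶ N) [Epi φ] {U : X.Opens} (t : Γ(N, U)) {x : X}
    (hx : x ∈ U) : ∃ (U' : X.Opens) (h : U' ≤ U), x ∈ U' ∧ ∃ s : Γ(M, U'), φ.app U' s = rs N h t := by
  obtain ⟨k, hk⟩ := (Groth.L21.Mod.epi_iff_stalk_surjective φ).1 inferInstance x (N.presheaf.germ U x hx t)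
  obtain ⟨U₁, hx₁, s, rfl⟩ := M.presheaf.exists_germ_eq k
  rw [Groth.L21.Mod.stalkF_map_germ φ U₁ x hx₁ s] at hk
  obtain ⟨U', hx', i₁, i₂, h⟩ := N.presheaf.germ_eq x hx₁ hx _ _ hk
  exact ⟨U', i₂.le, hx', rs M i₁.le s, (app_rs φ i₁.le s).trans h⟩

/-- A rank-one frame property: frames everywhere give rank one. -/
theorem isFinLocFreeOfRank_one_of_frames {N : X.Modules}
    (h : ∀ x : X, ∃ (W : X.Opens) (e : Γ(N, W)), x ∈ W ∧ IsFrame N W e) :
    FlatMod.IsFinLocFreeOfRank 1 N := by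
  intro x
  obtain ⟨W, hx, ⟨φ⟩⟩ := Groth.L18.GenLoc.isInvertible_of_frames h x
  exact ⟨W, hx, ⟨φ ≪≫ (coproductUniqueIso (fun _ : Fin 1 => Coh.structureModule W.toScheme)).symm⟩⟩

theorem exists_frame_of_rank_one {N : X.Modules} (hN : FlatMod.IsFinLocFreeOfRank 1 N) (x : X) :
    ∃ (W : X.Opens) (e : Γ(N, W)), x ∈ W ∧ IsFrame N W e :=
  Groth.L18.Frame.exists_frame (fun y => by
    obtain ⟨U, hy, ⟨φ⟩⟩ := hN y
    exact ⟨U, hy, ⟨φ ≪≫ coproductUniqueIso (fun _ : Fin 1 => Coh.structureModule U.toScheme)⟩⟩) x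

variable {S P : Scheme.{u}} (p : P ⟶ S) {F : S.Modules} {O1 : P.Modules}
  (u : (Scheme.Modules.pullback p).obj F ⟶ O1) {V : S.Opens} {n : ℕ} (b : Fin n → Γ(F, V))

/-- The sections of `O(1)` given by a basis. -/
def sec (i : Fin n) : Γ(O1, p ⁻¹ᵁ V) := u.app (p ⁻¹ᵁ V) (pull p F V (b i))

/-- The locus where the `l`-th section is a frame. -/
def locus (l : Fin n) : P.Opens :=
  sSup {W | ∃ h : W ≤ p ⁻¹ᵁ V, IsFrame O1 W (rs O1 h (sec p u b l))}

theorem locus_le (l : Fin n) : locus p u b l ≤ p ⁻¹ᵁ V := sSup_le fun _ hW => hW.1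

theorem le_locus {l : Fin n} {W : P.Opens} (h : W ≤ p ⁻¹ᵁ V) (hW : IsFrame O1 W (rs O1 h (sec p u b l))) :
    W ≤ locus p u b l := le_sSup ⟨h, hW⟩

theorem isFrame_locus (l : Fin n) :
    IsFrame O1 (locus p u b l) (rs O1 (locus_le p u b l) (sec p u b l)) :=
  IsFrame.of_cover (ι := {W : P.Opens // ∃ h : W ≤ p ⁻¹ᵁ V, IsFrame O1 W (rs O1 h (sec p u b l))})
    (fun k => k.1) (fun k => le_locus p u b k.2.1 k.2.2)
    (sSup_le fun W hW => le_iSup (fun k :
      {W : P.Opens // ∃ h : W ≤ p ⁻¹ᵁ V, IsFrame O1 W (rs O1 h (sec p u b l))} => k.1) ⟨W, hW⟩)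
    fun k => by rw [rs_rs]; exact k.2.2

/-- The loci cover the preimage. -/
theorem exists_mem_locus (h1 : FlatMod.IsFinLocFreeOfRank 1 O1) [Epi u] (hb : IsBasisOn F V b) {x : P}
    (hx : x ∈ p ⁻¹ᵁ V) : ∃ l, x ∈ locus p u b l := by
  obtain ⟨W₀, e₀, hxW₀, he₀⟩ := exists_frame_of_rank_one h1 x
  let W := W₀ ⊓ p ⁻¹ᵁ V
  have he := he₀.mono (inf_le_left : W ≤ W₀)
  set e := rs O1 (inf_le_left : W ≤ W₀) e₀
  choose a ha using fun i => he.exists_coeff le_rfl (rs O1 (inf_le_right : W ≤ p ⁻¹ᵁ V) (sec p u b i))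
  simp only [rs_self] at ha
  obtain ⟨U', hU', hxU', s, hs⟩ := exists_local_preimage u e (show x ∈ W from ⟨hxW₀, hx⟩)
  have hUV : U' ≤ p ⁻¹ᵁ V := hU'.trans inf_le_right
  obtain ⟨c, rfl⟩ := ((hb.pullback p) U' hUV).2 s
  rw [app_lc] at hs
  have h1' : ∑ i, c i * ro hU' (a i) = 1 := by
    refine (he.mono hU').inj le_rfl ?_
    rw [rs_self, one_smul, Finset.sum_smul]
    refine Eq.trans ?_ hs
    refine Finset.sum_congr rfl fun i _ => ?_
    rw [mul_smul, ← rs_smul, ha, rs_rs]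
    rfl
  obtain ⟨l, hl⟩ : ∃ l, IsUnit (P.presheaf.germ U' x hxU' (ro hU' (a l))) := by
    by_contra hne
    simp only [not_exists] at hne
    have : (1 : P.presheaf.stalk x) ∈ IsLocalRing.maximalIdeal (P.presheaf.stalk x) := by
      rw [← map_one (P.presheaf.germ U' x hxU').hom, ← h1', map_sum]
      exact Ideal.sum_mem _ fun i _ => by
        rw [map_mul]
        exact Ideal.mul_mem_left _ _ (hne i)
    exact this isUnit_one
  have hxb : x ∈ P.basicOpen (ro hU' (a l)) := (P.mem_basicOpen _ x hxU').mpr hl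
  have hbU := P.basicOpen_le (ro hU' (a l))
  refine ⟨l, le_locus p u b (hbU.trans hUV) ?_ hxb⟩
  have hu : IsUnit (ro hbU (ro hU' (a l))) :=
    RingedSpace.isUnit_res_basicOpen P.toRingedSpace (ro hU' (a l))
  have := ((he.mono hU').mono hbU).smul_unit hu
  rwa [rs_rs, ro_ro, ← rs_smul, ha, rs_rs] at this

/-- The coordinates on a locus. -/
def crd (l i : Fin n) : Γ(P, locus p u b l) :=
  ((isFrame_locus p u b l).exists_coeff le_rfl (rs O1 (locus_le p u b l) (sec p u b i))).choose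

theorem crd_smul (l i : Fin n) :
    crd p u b l i • rs O1 (locus_le p u b l) (sec p u b l) = rs O1 (locus_le p u b l) (sec p u b i) := by
  have h := ((isFrame_locus p u b l).exists_coeff le_rfl (rs O1 (locus_le p u b l) (sec p u b i))).choose_spec
  refine Eq.trans (congrArg (_ • ·) ?_) h
  exact (rs_self _ _ _).symm

theorem crd_self (l : Fin n) : crd p u b l l = 1 :=
  (isFrame_locus p u b l).inj le_rfl (by rw [rs_self, crd_smul, one_smul])

end Groth.L19.ProjBdl
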