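import Groth.Agent.L17.PullBasis
import Groth.Agent.L18.Frame
import Groth.Agent.L18.IsoCover

/-!
# Bases of sections of modules on schemes
-/

set_option autoImplicit false
set_option linter.style.haveILetI false
set_option backward.isDefEq.respectTransparency.types false
set_option backward.isDefEq.respectTransparency false

universe u

open CategoryTheory CategoryTheory.Limits AlgebraicGeometry TopologicalSpace Opposite

noncomputable section

namespace Groth.L19.ProjBdl

open Groth.L18.Frame (rs ro rs_rs ro_ro rs_smul ro_self rs_self IsFrame pull pull_rs pull_smul)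

variable {X : Scheme.{u}} {M N : X.Modules} {W : X.Opens} {n : ℕ}

/-- Linear combination of restricted sections. -/
def lc (M : X.Modules) {W V : X.Opens} (b : Fin n → Γ(M, W)) (h : V ≤ W) (c : Fin n → Γ(X, V)) : Γ(M, V) :=
  ∑ i, c i • rs M h (b i)

theorem rs_sum (M : X.Modules) {U V : X.Opens} (h : V ≤ U) {ι : Type*} (t : Finset ι) (s : ι → Γ(M, U)) :
    rs M h (∑ i ∈ t, s i) = ∑ i ∈ t, rs M h (s i) := map_sum _ _ _

theorem ro_sum {U V : X.Opens} (h : V ≤ U) {ι : Type*} (t : Finset ι) (s : ι → Γ(X, U)) :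
    ro h (∑ i ∈ t, s i) = ∑ i ∈ t, ro h (s i) := map_sum _ _ _

theorem rs_lc (b : Fin n → Γ(M, W)) {V V' : X.Opens} (h : V ≤ W) (h' : V' ≤ V) (c : Fin n → Γ(X, V)) :
    rs M h' (lc M b h c) = lc M b (h'.trans h) fun i => ro h' (c i) := by
  refine (rs_sum M h' _ _).trans (Finset.sum_congr rfl fun i _ => ?_)
  rw [rs_smul, rs_rs]

theorem lc_mono (b : Fin n → Γ(M, W)) {W' V : X.Opens} (hW : W' ≤ W) (h : V ≤ W') (c : Fin n → Γ(X, V)) :
    lc M (fun i => rs M hW (b i)) h c = lc M b (h.trans hW) c :=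
  Finset.sum_congr rfl fun i _ => by rw [rs_rs]

theorem app_rs (φ : M ⟶ N) {U V : X.Opens} (h : V ≤ U) (s : Γ(M, U)) :
    φ.app V (rs M h s) = rs N h (φ.app U s) :=
  Groth.L18.IsoCover.app_rs' φ h s

theorem app_lc (φ : M ⟶ N) (b : Fin n → Γ(M, W)) {V : X.Opens} (h : V ≤ W) (c : Fin n → Γ(X, V)) :
    φ.app V (lc M b h c) = lc N (fun i => φ.app W (b i)) h c := by
  refine (map_sum _ _ _).trans (Finset.sum_congr rfl fun i _ => ?_)
  rw [Scheme.Modules.Hom.app_smul, app_rs]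

/-- `b` is a basis of `M` over `W`. -/
def IsBasisOn (M : X.Modules) (W : X.Opens) (b : Fin n → Γ(M, W)) : Prop :=
  ∀ (V : X.Opens) (h : V ≤ W), Function.Bijective (lc M b h)

theorem isBasisOn_of_locBases {b : Fin n → Γ(M, W)} (hb : Groth.L17.LocBases.IsBasis (O := X.sheaf) M b) :
    IsBasisOn M W b := fun V h => hb V (homOfLE h)

theorem IsBasisOn.locBases {b : Fin n → Γ(M, W)} (hb : IsBasisOn M W b) :
    Groth.L17.LocBases.IsBasis (O := X.sheaf) M b := fun V g => hb V (leOfHom g)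

theorem IsBasisOn.mono {b : Fin n → Γ(M, W)} (hb : IsBasisOn M W b) {W' : X.Opens} (h : W' ≤ W) :
    IsBasisOn M W' fun i => rs M h (b i) := fun V hV => by
  rw [show lc M (fun i => rs M h (b i)) hV = lc M b (hV.trans h) from funext fun c => lc_mono b h hV c]
  exact hb V _

/-- The coordinates in a basis. -/
def coord {b : Fin n → Γ(M, W)} (hb : IsBasisOn M W b) {V : X.Opens} (h : V ≤ W) (s : Γ(M, V)) :
    Fin n → Γ(X, V) := ((hb V h).2 s).choose

theorem lc_coord {b : Fin n → Γ(M, W)} (hb : IsBasisOn M W b) {V : X.Opens} (h : V ≤ W) (s : Γ(M, V)) :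
    lc M b h (coord hb h s) = s := ((hb V h).2 s).choose_spec

theorem coord_eq {b : Fin n → Γ(M, W)} (hb : IsBasisOn M W b) {V : X.Opens} (h : V ≤ W) {s : Γ(M, V)}
    {c : Fin n → Γ(X, V)} (hc : lc M b h c = s) : coord hb h s = c :=
  (hb V h).1 ((lc_coord hb h s).trans hc.symm)

theorem coord_rs {b : Fin n → Γ(M, W)} (hb : IsBasisOn M W b) {V V' : X.Opens} (h : V ≤ W) (h' : V' ≤ V)
    (s : Γ(M, V)) : coord hb (h'.trans h) (rs M h' s) = fun i => ro h' (coord hb h s i) :=
  coord_eq hb _ ((rs_lc b h h' _).symm.trans (congrArg (rs M h') (lc_coord hb h s)))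

/-- Finite locally free modules have bases on small affine opens. -/
theorem exists_basisOn (hM : FlatMod.IsFinLocFree M) (x : X) (O : X.Opens) (hx : x ∈ O) :
    ∃ (V : X.Opens) (n : ℕ) (b : Fin n → Γ(M, V)), IsAffineOpen V ∧ x ∈ V ∧ V ≤ O ∧ IsBasisOn M V b := by
  obtain ⟨U, n, hxU, ⟨e⟩⟩ := hM x
  obtain ⟨s, hs⟩ := Groth.L17.FinLocBases.exists_isBasis M e
  have hU : U.ι ''ᵁ ⊤ = U := (Scheme.Hom.image_top_eq_opensRange U.ι).trans U.opensRange_ι
  obtain ⟨_, ⟨V, hV, rfl⟩, hxV, hVO⟩ :=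
    X.isBasis_affineOpens.exists_subset_of_mem_open (show x ∈ O ⊓ U.ι ''ᵁ ⊤ from ⟨hx, hU.ge hxU⟩) (O ⊓ U.ι ''ᵁ ⊤).2
  have hV1 : V ≤ O := fun y hy => (hVO hy).1
  have hV2 : V ≤ U.ι ''ᵁ ⊤ := fun y hy => (hVO hy).2
  exact ⟨V, n, _, hV, hxV, hV1, (isBasisOn_of_locBases hs).mono hV2⟩

/-- Pullback of a basis. -/
theorem IsBasisOn.pullback {T : Scheme.{u}} (g : T ⟶ X) {b : Fin n → Γ(M, W)} (hb : IsBasisOn M W b) :
    IsBasisOn ((Scheme.Modules.pullback g).obj M) (g ⁻¹ᵁ W) fun i => pull g M W (b i) :=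
  isBasisOn_of_locBases (Groth.L17.PullBasis.isBasis_pullback g M b hb.locBases)

/-- Morphisms agreeing on a basis covering everything agree. -/
theorem hom_ext_basis {b : Fin n → Γ(M, W)} (hb : IsBasisOn M W b) (hW : ⊤ ≤ W) (φ ψ : M ⟶ N)
    (h : ∀ i, φ.app W (b i) = ψ.app W (b i)) : φ = ψ :=
  Scheme.Modules.hom_ext _ _ fun V => ConcreteCategory.hom_ext _ _ fun s => by
    have hV : V ≤ W := le_top.trans hW
    obtain ⟨c, rfl⟩ := (hb V hV).2 s
    rw [app_lc, app_lc, funext h]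

/-- A morphism with prescribed values on a basis. -/
theorem exists_hom_basis {b : Fin n → Γ(M, W)} (hb : IsBasisOn M W b) (hW : ⊤ ≤ W) (l : Fin n → Γ(N, W)) :
    ∃ φ : M ⟶ N, ∀ i, φ.app W (b i) = l i := by
  classical
  have hV : ∀ V : X.Opens, V ≤ W := fun V => le_top.trans hW
  let ψ0 : ∀ V : X.Opens, Γ(M, V) → Γ(N, V) := fun V s => lc N l (hV V) (coord hb (hV V) s)
  have hadd : ∀ V (s t : Γ(M, V)), ψ0 V (s + t) = ψ0 V s + ψ0 V t := fun V s t => by
    have e : coord hb (hV V) (s + t) = coord hb (hV V) s + coord hb (hV V) t := coord_eq hb _ (by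
      conv_rhs => rw [← lc_coord hb (hV V) s, ← lc_coord hb (hV V) t]
      simp only [lc, Pi.add_apply, add_smul, Finset.sum_add_distrib])
    simp only [ψ0, e, lc, Pi.add_apply, add_smul, Finset.sum_add_distrib]
  have hzero : ∀ V, ψ0 V 0 = 0 := fun V => by
    have e : coord hb (hV V) (0 : Γ(M, V)) = 0 := coord_eq hb _ (by simp [lc])
    simp [ψ0, e, lc]
  have hsmul : ∀ V (r : Γ(X, V)) (s : Γ(M, V)), ψ0 V (r • s) = r • ψ0 V s := fun V r s => by
    have e : coord hb (hV V) (r • s) = fun i => r * coord hb (hV V) s i := coord_eq hb _ (by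
      conv_rhs => rw [← lc_coord hb (hV V) s]
      simp only [lc, Finset.smul_sum, mul_smul])
    simp only [ψ0, e, lc, Finset.smul_sum, mul_smul]
  have hnat : ∀ (V V' : X.Opens) (h : V' ≤ V) (s : Γ(M, V)), ψ0 V' (rs M h s) = rs N h (ψ0 V s) := fun V V' h s => by
    show lc N l (hV V') (coord hb (hV V') (rs M h s)) = rs N h (lc N l (hV V) (coord hb (hV V) s))
    rw [rs_lc]
    exact congrArg (lc N l (hV V')) (coord_rs hb (hV V) h s)
  refine ⟨⟨PresheafOfModules.homMk
    { app := fun V => AddCommGrpCat.ofHom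
        { toFun := fun (s : Γ(M, V.unop)) => (ψ0 V.unop s : Γ(N, V.unop))
          map_zero' := hzero _
          map_add' := hadd _ }
      naturality := fun {V₁ V₂} i => by
        ext s
        exact hnat V₁.unop V₂.unop i.unop.le s }
    fun V r s => hsmul V.unop r s⟩, fun i => ?_⟩
  show ψ0 W (b i) = l i
  have e : coord hb (hV W) (b i) = fun j => if j = i then 1 else 0 := coord_eq hb _ (by
    simp only [lc, ite_smul, one_smul, zero_smul, Finset.sum_ite_eq', Finset.mem_univ, if_true, rs_self])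
  simp only [ψ0, e, lc, ite_smul, one_smul, zero_smul, Finset.sum_ite_eq', Finset.mem_univ, if_true, rs_self]

end Groth.L19.ProjBdl
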