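import Groth.Agent.L19.ProjBdl.Points
import Mathlib.AlgebraicGeometry.AffineScheme
import Mathlib.Algebra.MvPolynomial.Eval

/-!
# The standard charts of a projective bundle
-/

set_option autoImplicit false
set_option linter.style.haveILetI false
set_option backward.isDefEq.respectTransparency.types false
set_option backward.isDefEq.respectTransparency false

universe u

open CategoryTheory CategoryTheory.Limits AlgebraicGeometry TopologicalSpace Opposite

noncomputable section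

namespace Groth.L19.ProjBdl

open Groth.L18.Frame (rs ro rs_rs ro_ro rs_smul ro_self rs_self IsFrame pull pull_rs pull_smul)

variable {S P : Scheme.{u}} {p : P ⟶ S} {F : S.Modules} {O1 : P.Modules}
  {u : (Scheme.Modules.pullback p).obj F ⟶ O1} {V : S.Opens} {n : ℕ} {b : Fin n → Γ(F, V)}

/-- The coordinate ring of a chart. -/
abbrev Acrd (V : S.Opens) {n : ℕ} (l : Fin n) := MvPolynomial {i : Fin n // i ≠ l} Γ(S, V)

/-- The coordinates of a chart. -/
def ratio (V : S.Opens) {n : ℕ} (l i : Fin n) : Acrd V l := if h : i = l then 1 else MvPolynomial.X ⟨i, h⟩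

theorem ratio_self (V : S.Opens) (l : Fin n) : ratio V l l = 1 := dif_pos rfl

theorem ratio_ne (V : S.Opens) {l : Fin n} (i : {i : Fin n // i ≠ l}) : ratio V l i.1 = MvPolynomial.X i := by
  rw [ratio, dif_neg i.2]

variable (p u b) in
/-- The map of rings of a chart. -/
def chartHom (l : Fin n) : CommRingCat.of (Acrd V l) ⟶ Γ((locus p u b l).toScheme, ⊤) :=
  CommRingCat.ofHom (MvPolynomial.eval₂Hom
    (p.appLE V (locus p u b l) (locus_le p u b l) ≫ (locus p u b l).topIso.inv).hom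
    fun i => (locus p u b l).topIso.inv (crd p u b l i.1))

variable (p u b) in
/-- The inverse of a chart. -/
def chartInv (l : Fin n) : (locus p u b l).toScheme ⟶ Spec (CommRingCat.of (Acrd V l)) :=
  (locus p u b l).toScheme.toSpecΓ ≫ Spec.map (chartHom p u b l)

theorem chartHom_C (l : Fin n) :
    CommRingCat.ofHom (MvPolynomial.C : Γ(S, V) →+* Acrd V l) ≫ chartHom p u b l =
      p.appLE V (locus p u b l) (locus_le p u b l) ≫ (locus p u b l).topIso.inv := by
  ext a
  exact MvPolynomial.eval₂Hom_C _ _ a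

theorem chartHom_ratio (l i : Fin n) :
    chartHom p u b l (ratio V l i) = (locus p u b l).topIso.inv (crd p u b l i) := by
  by_cases h : i = l
  · subst h
    rw [ratio_self, crd_self, map_one, map_one]
  · rw [show ratio V l i = MvPolynomial.X ⟨i, h⟩ from ratio_ne V ⟨i, h⟩]
    exact MvPolynomial.eval₂Hom_X' _ _ _

theorem toSpecΓ_fromSpec {X Y : Scheme.{u}} (f : X ⟶ Y) {V : Y.Opens} (hV : IsAffineOpen V) (e : ⊤ ≤ f ⁻¹ᵁ V) :
    X.toSpecΓ ≫ Spec.map (f.appLE V ⊤ e) ≫ hV.fromSpec = f := by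
  have hr : Set.range f ⊆ Set.range hV.fromSpec := by
    rw [hV.range_fromSpec]
    rintro _ ⟨z, rfl⟩
    exact e (Set.mem_univ z)
  obtain ⟨ψ, hψ⟩ : ∃ ψ, X.toSpecΓ ≫ Spec.map ψ ≫ hV.fromSpec = f :=
    ⟨(ΓSpec.adjunction.homEquiv X (op Γ(Y, V))).symm (IsOpenImmersion.lift hV.fromSpec f hr) |>.unop, by
      rw [← Category.assoc]
      refine (congrArg (· ≫ hV.fromSpec) ?_).trans (IsOpenImmersion.lift_fac _ f hr)
      exact ((ΓSpec.adjunction.homEquiv X (op Γ(Y, V))).apply_symm_apply (IsOpenImmersion.lift hV.fromSpec f hr))⟩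
  subst hψ
  congr 3
  have h1 : hV.fromSpec.appLE V ⊤ hV.fromSpec_preimage_self.ge = (Scheme.ΓSpecIso Γ(Y, V)).inv := by
    rw [Scheme.Hom.appLE, hV.fromSpec_app_self, Category.assoc, ← Functor.map_comp]
    exact (congrArg ((Scheme.ΓSpecIso Γ(Y, V)).inv ≫ ·) ((Spec Γ(Y, V)).presheaf.map_id _)).trans
      (Category.comp_id _)
  simp only [← Category.assoc]
  rw [← Scheme.Hom.appLE_comp_appLE (X.toSpecΓ ≫ Spec.map ψ) hV.fromSpec V ⊤ ⊤
    hV.fromSpec_preimage_self.ge le_top, h1,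
    show (X.toSpecΓ ≫ Spec.map ψ).appLE ⊤ ⊤ le_top = (X.toSpecΓ ≫ Spec.map ψ).appTop from
      (Scheme.Hom.app_eq_appLE _).symm, Scheme.Hom.comp_appTop, ← Category.assoc,
    ← Scheme.ΓSpecIso_inv_naturality, Category.assoc, Scheme.toSpecΓ_appTop, Iso.inv_hom_id, Category.comp_id]

theorem chartInv_base (hV : IsAffineOpen V) (l : Fin n) :
    chartInv p u b l ≫ Spec.map (CommRingCat.ofHom (MvPolynomial.C : Γ(S, V) →+* Acrd V l)) ≫ hV.fromSpec =
      (locus p u b l).ι ≫ p := by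
  have e : ⊤ ≤ ((locus p u b l).ι ≫ p) ⁻¹ᵁ V := fun x _ => locus_le p u b l x.2
  refine Eq.trans ?_ (toSpecΓ_fromSpec ((locus p u b l).ι ≫ p) hV e)
  rw [chartInv, Category.assoc, ← Spec.map_comp_assoc, chartHom_C]
  congr 3
  rw [← Scheme.Hom.appLE_comp_appLE (locus p u b l).ι p V (locus p u b l) ⊤ (locus_le p u b l)
    (fun x _ => x.2)]
  congr 1
  rw [Scheme.Opens.ι_appLE]
  rfl

theorem chartInv_appTop (l : Fin n) :
    (chartInv p u b l).appTop = (Scheme.ΓSpecIso (CommRingCat.of (Acrd V l))).hom ≫ chartHom p u b l := by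
  rw [chartInv, Scheme.Hom.comp_appTop, Scheme.toSpecΓ_appTop, Scheme.ΓSpecIso_naturality]

/-- The chart. -/
theorem exists_chart (hPB : KRR.IsProjBundle p F O1 u) (hb : IsBasisOn F V b) (hV : IsAffineOpen V) (l : Fin n) :
    ∃ (j : Spec (CommRingCat.of (Acrd V l)) ⟶ P) (_ : IsOpenImmersion j) (hW : ⊤ ≤ j ⁻¹ᵁ locus p u b l),
      j.opensRange = locus p u b l ∧
      j ≫ p = Spec.map (CommRingCat.ofHom (MvPolynomial.C : Γ(S, V) →+* Acrd V l)) ≫ hV.fromSpec ∧
      ∀ i, j.appLE _ ⊤ hW (crd p u b l i) = (Scheme.ΓSpecIso (CommRingCat.of (Acrd V l))).inv (ratio V l i) := by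
  let A := CommRingCat.of (Acrd V l)
  let γ := Scheme.ΓSpecIso A
  let g := Spec.map (CommRingCat.ofHom (MvPolynomial.C : Γ(S, V) →+* Acrd V l)) ≫ hV.fromSpec
  have hg : ⊤ ≤ g ⁻¹ᵁ V := fun x _ => hV.range_fromSpec.le ⟨_, rfl⟩
  obtain ⟨j, hW, hjp, hjr⟩ := exists_hom hPB hb g hg (fun i => γ.inv (ratio V l i)) l
    (by rw [ratio_self, map_one])
  let W := locus p u b l
  let j' : Spec A ⟶ W.toScheme := IsOpenImmersion.lift W.ι j (by
    rw [Scheme.Opens.range_ι]; rintro _ ⟨z, rfl⟩; exact hW (Set.mem_univ z))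
  have hj' : j' ≫ W.ι = j := IsOpenImmersion.lift_fac _ _ _
  have happ : ∀ a : Γ(P, W), j'.appTop (W.topIso.inv a) = j.appLE W ⊤ hW a := fun a => by
    have eq : j.appLE W ⊤ hW = W.topIso.inv ≫ j'.appTop := by
      simp only [← hj']
      rw [← Scheme.Hom.appLE_comp_appLE j' W.ι W ⊤ ⊤ (fun x _ => x.2) le_top]
      congr 1
      rw [Scheme.Opens.ι_appLE]; rfl
    rw [eq]; rfl
  have h1 : j' ≫ chartInv p u b l = 𝟙 _ := by
    refine ext_of_isAffine ?_
    rw [Scheme.Hom.comp_appTop, chartInv_appTop, Scheme.Hom.id_appTop, Category.assoc, ← Iso.eq_inv_comp,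
      Category.comp_id]
    refine CommRingCat.hom_ext (MvPolynomial.ringHom_ext (fun a => ?_) fun i => ?_)
    · have h2 : (j' ≫ W.ι ≫ p).appLE V ⊤ (by rw [← Category.assoc, hj', hjp]; exact hg) = g.appLE V ⊤ hg := by
        simp only [← Category.assoc, hj', hjp]
      show j'.appTop (chartHom p u b l (MvPolynomial.C a)) = γ.inv (MvPolynomial.C a)
      rw [show chartHom p u b l (MvPolynomial.C a) =
        W.topIso.inv (p.appLE V W (locus_le p u b l) a) from congr($(chartHom_C (p := p) (u := u) (b := b) l) a),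
        happ, ← CommRingCat.comp_apply, Scheme.Hom.appLE_comp_appLE]
      have h3 : g.appLE V ⊤ hg = CommRingCat.ofHom (MvPolynomial.C : Γ(S, V) →+* Acrd V l) ≫ γ.inv := by
        rw [← Scheme.Hom.appLE_comp_appLE _ hV.fromSpec V ⊤ ⊤ hV.fromSpec_preimage_self.ge le_top]
        have h4 : hV.fromSpec.appLE V ⊤ hV.fromSpec_preimage_self.ge = (Scheme.ΓSpecIso Γ(S, V)).inv := by
          rw [Scheme.Hom.appLE, hV.fromSpec_app_self, Category.assoc, ← Functor.map_comp]
          exact (congrArg ((Scheme.ΓSpecIso Γ(S, V)).inv ≫ ·) ((Spec Γ(S, V)).presheaf.map_id _)).trans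
            (Category.comp_id _)
        rw [h4, Scheme.ΓSpecIso_inv_naturality]
        congr 1
      simp only [hjp]
      rw [h3]
      rfl
    · show j'.appTop (chartHom p u b l (MvPolynomial.X i)) = γ.inv (MvPolynomial.X i)
      rw [← ratio_ne V i, chartHom_ratio, happ, hjr]
  have hc : ⊤ ≤ (chartInv p u b l ≫ j) ⁻¹ᵁ W := fun x _ => hW (Set.mem_univ _)
  have h2 : chartInv p u b l ≫ j = W.ι := by
    refine hom_ext hPB hb (l := l) ?_ hc (fun x _ => x.2) fun i => ?_
    · rw [Category.assoc, hjp]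
      exact chartInv_base hV l
    · rw [← Scheme.Hom.appLE_comp_appLE _ j W ⊤ ⊤ hW le_top, CommRingCat.comp_apply, hjr,
        show (chartInv p u b l).appLE ⊤ ⊤ le_top = (chartInv p u b l).appTop from (Scheme.Hom.app_eq_appLE _).symm,
        chartInv_appTop, CommRingCat.comp_apply]
      refine (congrArg (chartHom p u b l) (congr($(γ.inv_hom_id) (ratio V l i)))).trans ?_
      refine (chartHom_ratio l i).trans ?_
      exact (congr($(Scheme.Opens.ι_appLE (U := W) W ⊤ (fun x _ => x.2)) (crd p u b l i))).symm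
  have h3 : chartInv p u b l ≫ j' = 𝟙 _ := by
    rw [← cancel_mono W.ι, Category.assoc, hj', h2, Category.id_comp]
  haveI : IsIso j' := ⟨chartInv p u b l, h1, h3⟩
  refine ⟨j, by rw [← hj']; infer_instance, hW, ?_, hjp, hjr⟩
  simp only [← hj']
  rw [Scheme.Hom.opensRange_comp_of_isIso, Scheme.Opens.opensRange_ι]

theorem isAffineOpen_locus (hPB : KRR.IsProjBundle p F O1 u) (hb : IsBasisOn F V b) (hV : IsAffineOpen V) (l : Fin n) :
    IsAffineOpen (locus p u b l) := by
  obtain ⟨j, hj, _, hr, -⟩ := exists_chart hPB hb hV l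
  rw [← hr]
  exact isAffineOpen_opensRange j

end Groth.L19.ProjBdl
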