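import Groth.Agent.L18.GenLocus
import Groth.Agent.L19.ProjBdl.Basis

/-!
# Tensoring with a frame is bijective
-/

set_option autoImplicit false
set_option backward.isDefEq.respectTransparency false
universe u

open CategoryTheory MonoidalCategory AlgebraicGeometry TopologicalSpace Opposite TensorProduct

noncomputable section

namespace Groth.L19.ProjBdl

open Groth.L18.Frame (rs ro rs_rs rs_self rs_smul ro_ro ro_self ro_mul IsFrame)
open Groth.L18.GenLoc (tens tens_rs tens_smul_left tens_smul_right)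
open Groth.L00.Tensor (pre)

variable {X : Scheme.{u}} {M N : X.Modules} {W : X.Opens} {τ : Γ(N, W)}

theorem tens_add_left {U : X.Opens} (m m' : Γ(M, U)) (n : Γ(N, U)) :
    tens M N U (m + m') n = tens M N U m n + tens M N U m' n :=
  Groth.L00.Tensor.ev_add₁ (Groth.L00.Tensor.unit (pre M ⊗ pre N)) (op U) m m' n

theorem tens_zero_left {U : X.Opens} (n : Γ(N, U)) : tens M N U (0 : Γ(M, U)) n = 0 := by
  have h := tens_add_left (0 : Γ(M, U)) 0 n
  rw [add_zero] at h
  exact left_eq_add.mp h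

theorem tens_sum_left {U : X.Opens} {ι : Type*} (t : Finset ι) (m : ι → Γ(M, U)) (n : Γ(N, U)) :
    tens M N U (∑ i ∈ t, m i) n = ∑ i ∈ t, tens M N U (m i) n :=
  map_sum (AddMonoidHom.mk' (fun x => tens M N U x n) fun x y => tens_add_left x y n) m t

/-- Presheaf level bijectivity. -/
theorem bijective_tmul_frame (hτ : IsFrame N W τ) (V : X.Opens) (h : V ≤ W) :
    Function.Bijective fun w : Γ(M, V) =>
      (show (pre M).obj (op V) from w) ⊗ₜ[X.sheaf.obj.obj (op V)] (show (pre N).obj (op V) from rs N h τ) := by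
  let R := X.sheaf.obj.obj (op V)
  let eN : R ≃ₗ[R] (pre N).obj (op V) :=
    LinearEquiv.ofBijective (LinearMap.toSpanSingleton _ _ (show (pre N).obj (op V) from rs N h τ)) (hτ V h)
  let φ : (pre M).obj (op V) ≃ₗ[R] TensorProduct R ((pre M).obj (op V)) ((pre N).obj (op V)) :=
    (TensorProduct.rid R _).symm.trans (TensorProduct.congr (LinearEquiv.refl _ _) eN)
  have hφ : (fun w : Γ(M, V) =>
      (show (pre M).obj (op V) from w) ⊗ₜ[X.sheaf.obj.obj (op V)] (show (pre N).obj (op V) from rs N h τ)) =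
      fun w : Γ(M, V) => φ (show (pre M).obj (op V) from w) := by
    funext w
    simp [φ, eN, R]
  rw [hφ]
  exact φ.bijective

/-- Tensoring with a frame. -/
theorem bijective_tens_frame (hτ : IsFrame N W τ) {V : X.Opens} (h : V ≤ W) :
    Function.Bijective fun w : Γ(M, V) => tens M N V w (rs N h τ) := by
  let P := pre M ⊗ pre N
  let η := Groth.L00.Tensor.unit P
  have hW := ((Opens.grothendieckTopology X).W_iff_isLocallyBijective _).1 (Groth.L00.Tensor.Wp_unit P)
  let OM : TopCat.Sheaf Ab.{u} X.toTopCat := ⟨M.presheaf, M.isSheaf⟩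
  have hg : ∀ {V V' : X.Opens} (h : V ≤ W) (i : V' ⟶ V) (w : Γ(M, V)),
      Groth.L00.Tensor.rs P i.op ((show (pre M).obj (op V) from w) ⊗ₜ[X.sheaf.obj.obj (op V)]
        (show (pre N).obj (op V) from rs N h τ)) =
      ((show (pre M).obj (op V') from rs M i.le w) ⊗ₜ[X.sheaf.obj.obj (op V')]
        (show (pre N).obj (op V') from rs N (i.le.trans h) τ)) := fun {V V'} h i w => by
    show (show (pre M).obj (op V') from rs M i.le w) ⊗ₜ[X.sheaf.obj.obj (op V')]
      (show (pre N).obj (op V') from rs N i.le (rs N h τ)) = _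
    rw [rs_rs]
  have hinj : ∀ (V : X.Opens) (h : V ≤ W) (w w' : Γ(M, V)),
      tens M N V w (rs N h τ) = tens M N V w' (rs N h τ) → w = w' := by
    intro V h w w' e
    haveI := hW.1
    obtain ⟨S, hS, hS'⟩ := Groth.L00.Tensor.local_eq (J := Opens.grothendieckTopology X) η
      ((show (pre M).obj (op V) from w) ⊗ₜ[X.sheaf.obj.obj (op V)] (show (pre N).obj (op V) from rs N h τ))
      ((show (pre M).obj (op V) from w') ⊗ₜ[X.sheaf.obj.obj (op V)] (show (pre N).obj (op V) from rs N h τ)) e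
    choose V' i hi hxV' using fun x : V => hS x.1 x.2
    refine OM.eq_of_locally_eq' V' V (fun x => i x) (fun x hx => Opens.mem_iSup.mpr ⟨⟨x, hx⟩, hxV' ⟨x, hx⟩⟩)
      w w' fun x => ?_
    refine (bijective_tmul_frame (M := M) hτ (V' x) ((i x).le.trans h)).1 ?_
    have := hS' (i x) (hi x)
    rw [hg h (i x), hg h (i x)] at this
    exact this
  refine ⟨hinj V h, fun y => ?_⟩
  haveI := hW.2
  obtain ⟨S, hS, hS'⟩ := Groth.L00.Tensor.exists_local (J := Opens.grothendieckTopology X) η (U := op V) y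
  choose V' i hi hxV' using fun x : V => hS x.1 x.2
  choose q hq using fun x : V => hS' (i x) (hi x)
  choose w hw using fun x : V => (bijective_tmul_frame (M := M) hτ (V' x) ((i x).le.trans h)).2 (q x)
  have hc : V ≤ ⨆ x, V' x := fun x hx => Opens.mem_iSup.mpr ⟨⟨x, hx⟩, hxV' ⟨x, hx⟩⟩
  have hwy : ∀ x, tens M N (V' x) (w x) (rs N ((i x).le.trans h) τ) = rs (CohB1.tensorMod M N) (i x).le y :=
    fun x => (congrArg (η.app (op (V' x))) (hw x)).trans (hq x)
  obtain ⟨s, hs, -⟩ := OM.existsUnique_gluing' V' V (fun x => i x) hc w fun x z => by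
    show rs M inf_le_left (w x) = rs M inf_le_right (w z)
    refine hinj _ ((inf_le_left : V' x ⊓ V' z ≤ _).trans ((i x).le.trans h)) _ _ ?_
    have e1 := congrArg (rs (CohB1.tensorMod M N) (inf_le_left : V' x ⊓ V' z ≤ V' x)) (hwy x)
    have e2 := congrArg (rs (CohB1.tensorMod M N) (inf_le_right : V' x ⊓ V' z ≤ V' z)) (hwy z)
    simp only [tens_rs, rs_rs] at e1 e2
    exact e1.trans e2.symm
  refine ⟨s, ?_⟩
  let OT : TopCat.Sheaf Ab.{u} X.toTopCat := ⟨(CohB1.tensorMod M N).presheaf, (CohB1.tensorMod M N).isSheaf⟩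
  refine OT.eq_of_locally_eq' V' V (fun x => i x) hc _ y fun x => ?_
  show rs (CohB1.tensorMod M N) (i x).le (tens M N V s (rs N h τ)) = rs (CohB1.tensorMod M N) (i x).le y
  rw [tens_rs, rs_rs, show rs M (i x).le s = w x from hs x]
  exact hwy x

end Groth.L19.ProjBdl
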