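import Groth.Agent.L19.ProjBdl.Loci

/-!
# Points of a projective bundle in terms of ratios of coordinates
-/

set_option autoImplicit false
set_option linter.style.haveILetI false
set_option backward.isDefEq.respectTransparency.types false
set_option backward.isDefEq.respectTransparency false

universe u

open CategoryTheory CategoryTheory.Limits AlgebraicGeometry TopologicalSpace Opposite

noncomputable section

namespace Groth.L19.ProjBdl

open Groth.L18.Frame (rs ro rs_rs ro_ro rs_smul ro_self rs_self IsFrame pull pull_rs pull_smul isUnit_of_isFrame)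

variable {S P T : Scheme.{u}} {p : P ⟶ S} {F : S.Modules} {O1 : P.Modules}
  {u : (Scheme.Modules.pullback p).obj F ⟶ O1} {V : S.Opens} {n : ℕ} {b : Fin n → Γ(F, V)}

/-- A pulled back section, over everything. -/
def pullTop {X : Scheme.{u}} (h : T ⟶ X) (M : X.Modules) {W : X.Opens} (hW : ⊤ ≤ h ⁻¹ᵁ W) (m : Γ(M, W)) :
    Γ((Scheme.Modules.pullback h).obj M, ⊤) :=
  rs _ hW (pull h M W m)

theorem pullTop_mono {X : Scheme.{u}} (h : T ⟶ X) (M : X.Modules) {W W' : X.Opens} (hW : ⊤ ≤ h ⁻¹ᵁ W)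
    (hW' : W' ≤ W) (hT : ⊤ ≤ h ⁻¹ᵁ W') (m : Γ(M, W)) :
    pullTop h M hT (rs M hW' m) = pullTop h M hW m := by
  rw [pullTop, pullTop, ← pull_rs, rs_rs]

theorem pullTop_smul {X : Scheme.{u}} (h : T ⟶ X) (M : X.Modules) {W : X.Opens} (hW : ⊤ ≤ h ⁻¹ᵁ W)
    (a : Γ(X, W)) (m : Γ(M, W)) : pullTop h M hW (a • m) = h.appLE W ⊤ hW a • pullTop h M hW m := by
  rw [pullTop, pull_smul, rs_smul]
  rfl

theorem isFrame_pullTop {X : Scheme.{u}} (h : T ⟶ X) {M : X.Modules} {W : X.Opens} (hW : ⊤ ≤ h ⁻¹ᵁ W)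
    {m : Γ(M, W)} (hm : IsFrame M W m) : IsFrame ((Scheme.Modules.pullback h).obj M) ⊤ (pullTop h M hW m) :=
  (hm.pullback h M).mono hW

variable (p u b) in
/-- The classifying data: the sections `u b_i`, pulled back. -/
def psec (h : T ⟶ P) (hV : ⊤ ≤ h ⁻¹ᵁ (p ⁻¹ᵁ V)) (i : Fin n) :
    Γ((Scheme.Modules.pullback h).obj O1, ⊤) := pullTop h O1 hV (sec p u b i)

theorem psec_locus (h : T ⟶ P) (hV : ⊤ ≤ h ⁻¹ᵁ (p ⁻¹ᵁ V)) {l : Fin n} (hW : ⊤ ≤ h ⁻¹ᵁ locus p u b l) (i : Fin n) :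
    psec p u b h hV i = h.appLE _ ⊤ hW (crd p u b l i) • psec p u b h hV l := by
  rw [psec, psec, ← pullTop_mono h O1 hV (locus_le p u b l) hW, ← crd_smul, pullTop_smul,
    pullTop_mono h O1 hV (locus_le p u b l) hW]

theorem isFrame_psec (h : T ⟶ P) (hV : ⊤ ≤ h ⁻¹ᵁ (p ⁻¹ᵁ V)) {l : Fin n} (hW : ⊤ ≤ h ⁻¹ᵁ locus p u b l) :
    IsFrame ((Scheme.Modules.pullback h).obj O1) ⊤ (psec p u b h hV l) := by
  rw [psec, ← pullTop_mono h O1 hV (locus_le p u b l) hW]
  exact isFrame_pullTop h hW (isFrame_locus p u b l)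

/-- A point at which the `l`-th coordinate does not vanish lies in the locus. -/
theorem le_preimage_locus (hPB : KRR.IsProjBundle p F O1 u) (hb : IsBasisOn F V b) (h : T ⟶ P)
    (hV : ⊤ ≤ h ⁻¹ᵁ (p ⁻¹ᵁ V)) {l : Fin n}
    (hl : IsFrame ((Scheme.Modules.pullback h).obj O1) ⊤ (psec p u b h hV l)) :
    ⊤ ≤ h ⁻¹ᵁ locus p u b l := by
  haveI := hPB.epi
  intro t _
  obtain ⟨k, hk⟩ := exists_mem_locus p u b hPB.invertible hb (show h t ∈ p ⁻¹ᵁ V from hV (Set.mem_univ t))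
  set Wk := locus p u b k
  set a := crd p u b k l
  let T' := h ⁻¹ᵁ Wk
  have e1 := crd_smul p u b k l
  have e2 : rs _ (le_top : T' ≤ ⊤) (psec p u b h hV l) =
      h.app Wk a • pull h O1 Wk (rs O1 (locus_le p u b k) (sec p u b k)) := by
    rw [← pull_smul, e1, psec, pullTop, rs_rs, ← pull_rs]
  have h1 := hl.mono (le_top : T' ≤ ⊤)
  rw [e2] at h1
  have hu := isUnit_of_isFrame ((isFrame_locus p u b k).pullback h O1) h1
  have hb1 : t ∈ T.basicOpen (h.app Wk a) := (T.mem_basicOpen _ t hk).mpr (hu.map _)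
  rw [← Scheme.preimage_basicOpen] at hb1
  have hB := P.basicOpen_le a
  refine le_locus p u b (hB.trans (locus_le p u b k)) ?_ hb1
  have := ((isFrame_locus p u b k).mono hB).smul_unit
    (show IsUnit (ro hB a) from RingedSpace.isUnit_res_basicOpen P.toRingedSpace a)
  rwa [← rs_smul, e1, rs_rs] at this

variable (T) in
/-- The unit section. -/
def one1 (W : T.Opens) : Γ(Coh.structureModule T, W) := (1 : Γ(T, W))

theorem smul_one1 {W : T.Opens} (a : Γ(T, W)) : a • one1 T W = (a : Γ(T, W)) :=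
  mul_one (show Γ(T, W) from a)

theorem rs_one1 {W W' : T.Opens} (h : W' ≤ W) : rs (Coh.structureModule T) h (one1 T W) = one1 T W' :=
  map_one (T.presheaf.map (homOfLE h).op).hom

theorem isFrame_one1 (W : T.Opens) : IsFrame (Coh.structureModule T) W (one1 T W) := fun V h => by
  rw [show (fun a : Γ(T, V) => a • rs (Coh.structureModule T) h (one1 T W)) = fun a : Γ(T, V) => (a : Γ(T, V)) from
    funext fun a => (congrArg (a • ·) (rs_one1 h)).trans (smul_one1 a)]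
  exact Function.bijective_id

theorem isFinLocFreeOfRank_one_structureModule : FlatMod.IsFinLocFreeOfRank 1 (Coh.structureModule T) :=
  isFinLocFreeOfRank_one_of_frames fun _ => ⟨⊤, one1 T ⊤, trivial, isFrame_one1 ⊤⟩

theorem epi_of_one {M : T.Modules} (s : M ⟶ Coh.structureModule T) (m : Γ(M, ⊤)) (hm : s.app ⊤ m = one1 T ⊤) :
    Epi s := ⟨fun {Z} a a' h => Scheme.Modules.hom_ext _ _ fun W => ConcreteCategory.hom_ext _ _ fun t => by
  have e : s.app W ((show Γ(T, W) from t) • rs M le_top m) = t := by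
    rw [Scheme.Modules.Hom.app_smul, app_rs, hm, rs_one1]
    exact smul_one1 (W := W) t
  rw [← e]
  exact congr($(h).app W ((show Γ(T, W) from t) • rs M le_top m))⟩

/-- The canonical comparison, on a pulled back section. -/
theorem canon_app (h : T ⟶ P) (i : Fin n) (hV : ⊤ ≤ h ⁻¹ᵁ (p ⁻¹ᵁ V)) :
    ((Scheme.Modules.pullbackComp h p).inv.app F ≫ (Scheme.Modules.pullback h).map u).app ⊤
      (pullTop (h ≫ p) F hV (b i)) = psec p u b h hV i := by
  rw [pullTop, app_rs]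
  refine congrArg (rs _ hV) ?_
  show ((Scheme.Modules.pullback h).map u).app _ (((Scheme.Modules.pullbackComp h p).inv.app F).app _
    (pull (h ≫ p) F V (b i))) = _
  rw [pull_comp]
  exact pull_app h u (p ⁻¹ᵁ V) (pull p F V (b i))

/-- A morphism with given ratios is classified by the corresponding quotient. -/
theorem exists_classified {g : T ⟶ S} (hg : ⊤ ≤ g ⁻¹ᵁ V) (hb : IsBasisOn F V b)
    (s : (Scheme.Modules.pullback g).obj F ⟶ Coh.structureModule T) (h : T ⟶ P) (hh : h ≫ p = g) {l : Fin n}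
    (hW : ⊤ ≤ h ⁻¹ᵁ locus p u b l)
    (hs : ∀ i, s.app ⊤ (pullTop g F hg (b i)) = (h.appLE _ ⊤ hW (crd p u b l i) : Γ(T, ⊤))) :
    ∃ (hg : h ≫ p = g) (e : (Scheme.Modules.pullback h).obj O1 ≅ Coh.structureModule T),
      (Scheme.Modules.pullbackCongr hg).inv.app F ≫ (Scheme.Modules.pullbackComp h p).inv.app F ≫
        (Scheme.Modules.pullback h).map u ≫ e.hom = s := by
  subst hh
  have hV : ⊤ ≤ h ⁻¹ᵁ (p ⁻¹ᵁ V) := hg
  have hf := isFrame_psec h hV hW
  haveI : IsIso (Groth.L16.homOfSection _ (psec p u b h hV l)) :=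
    Groth.L16.isIso_homOfSection _ _ fun W => hf W le_top
  let e := (asIso (Groth.L16.homOfSection _ (psec p u b h hV l))).symm
  refine ⟨rfl, e, hom_ext_basis ((hb.pullback (h ≫ p)).mono hg) le_rfl _ _ fun i => ?_⟩
  refine Eq.trans ?_ (hs i).symm
  show e.hom.app ⊤ (((Scheme.Modules.pullbackComp h p).inv.app F ≫ (Scheme.Modules.pullback h).map u).app ⊤
    (pullTop (h ≫ p) F hV (b i))) = _
  rw [canon_app, psec_locus h hV hW i, Scheme.Modules.Hom.app_smul]
  refine (congrArg (_ • ·) (?_ : e.hom.app ⊤ (psec p u b h hV l) = one1 T ⊤)).trans (smul_one1 _)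
  refine Eq.trans (congrArg (e.hom.app ⊤) ?_) (congr($(e.inv_hom_id).app ⊤ (one1 T ⊤)))
  show psec p u b h hV l = (1 : Γ(T, ⊤)) • rs _ le_rfl (psec p u b h hV l)
  rw [one_smul, rs_self]

theorem exists_quotient {g : T ⟶ S} (hg : ⊤ ≤ g ⁻¹ᵁ V) (hb : IsBasisOn F V b) (r : Fin n → Γ(T, ⊤)) (l : Fin n)
    (hl : r l = 1) : ∃ s : (Scheme.Modules.pullback g).obj F ⟶ Coh.structureModule T,
      Epi s ∧ ∀ i, s.app ⊤ (pullTop g F hg (b i)) = (r i : Γ(T, ⊤)) := by
  obtain ⟨s, hs⟩ := exists_hom_basis (N := Coh.structureModule T) ((hb.pullback g).mono hg) le_rfl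
    (fun i => (r i : Γ(T, ⊤)))
  exact ⟨s, epi_of_one s _ ((hs l).trans hl), hs⟩

/-- Morphisms into a locus are determined by the ratios. -/
theorem hom_ext (hPB : KRR.IsProjBundle p F O1 u) (hb : IsBasisOn F V b) {l : Fin n} {h h' : T ⟶ P}
    (hp : h ≫ p = h' ≫ p) (hW : ⊤ ≤ h ⁻¹ᵁ locus p u b l) (hW' : ⊤ ≤ h' ⁻¹ᵁ locus p u b l)
    (hr : ∀ i, h.appLE _ ⊤ hW (crd p u b l i) = h'.appLE _ ⊤ hW' (crd p u b l i)) : h = h' := by
  have hg : ⊤ ≤ (h ≫ p) ⁻¹ᵁ V := hW.trans (h.preimage_mono (locus_le p u b l))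
  obtain ⟨s, hse, hs⟩ := exists_quotient hg hb (fun i => h.appLE _ ⊤ hW (crd p u b l i)) l
    (by rw [crd_self]; exact map_one _)
  obtain ⟨h₀, -, huniq⟩ := hPB.univ T (h ≫ p) _ isFinLocFreeOfRank_one_structureModule s hse
  exact (huniq h (exists_classified hg hb s h rfl hW hs)).trans
    (huniq h' (exists_classified hg hb s h' hp.symm hW' fun i => (hs i).trans (hr i))).symm

/-- Morphisms with given ratios exist. -/
theorem exists_hom (hPB : KRR.IsProjBundle p F O1 u) (hb : IsBasisOn F V b) (g : T ⟶ S) (hg : ⊤ ≤ g ⁻¹ᵁ V)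
    (r : Fin n → Γ(T, ⊤)) (l : Fin n) (hl : r l = 1) :
    ∃ (h : T ⟶ P) (hW : ⊤ ≤ h ⁻¹ᵁ locus p u b l), h ≫ p = g ∧
      ∀ i, h.appLE _ ⊤ hW (crd p u b l i) = r i := by
  obtain ⟨s, hse, hs⟩ := exists_quotient hg hb r l hl
  obtain ⟨h, ⟨hh, e, he⟩, -⟩ := hPB.univ T g _ isFinLocFreeOfRank_one_structureModule s hse
  subst hh
  have hV : ⊤ ≤ h ⁻¹ᵁ (p ⁻¹ᵁ V) := hg
  have hval : ∀ i, e.hom.app ⊤ (psec p u b h hV i) = (r i : Γ(T, ⊤)) := fun i => by
    rw [← hs i, ← he, ← canon_app]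
    rfl
  have hframe : IsFrame ((Scheme.Modules.pullback h).obj O1) ⊤ (psec p u b h hV l) := by
    have := isFrame_of_iso e.symm (isFrame_one1 (T := T) ⊤)
    convert this using 1
    refine Eq.symm ((congrArg (e.inv.app ⊤) ((hval l).trans hl).symm).trans ?_)
    exact congr($(e.hom_inv_id).app ⊤ (psec p u b h hV l))
  have hW := le_preimage_locus hPB hb h hV hframe
  refine ⟨h, hW, rfl, fun i => ?_⟩
  have h1 := congrArg (e.hom.app ⊤) (psec_locus h hV hW i)
  rw [Scheme.Modules.Hom.app_smul, hval, hval, hl] at h1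
  exact (smul_one1 _).symm.trans h1.symm

end Groth.L19.ProjBdl
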