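import Groth.Agent.L19.ProjBdl.Chart
import Groth.Agent.L19.OmegaSh.Affine
import Mathlib.RingTheory.Kaehler.Polynomial

/-!
# Differentials on the charts of a projective bundle are free
-/

set_option autoImplicit false
set_option linter.style.haveILetI false
set_option backward.isDefEq.respectTransparency.types false
set_option backward.isDefEq.respectTransparency false

universe u

open CategoryTheory CategoryTheory.Limits AlgebraicGeometry TopologicalSpace Opposite

noncomputable section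

namespace Groth.L19.ProjBdl

open Groth.L18.Frame (rs ro rs_rs ro_ro rs_smul ro_self rs_self IsFrame)

theorem isBasisOn_tilde {A : CommRingCat.{u}} (M : ModuleCat.{u} A) {n : ℕ} (bas : Module.Basis (Fin n) A M) :
    IsBasisOn (tilde M) ⊤ fun i => (show Γ(tilde M, ⊤) from tilde.toOpen M ⊤ (bas i)) := by
  classical
  let adj := tilde.adjunction (R := A)
  let γ := Scheme.ΓSpecIso A
  let G := Coh.structureModule (Spec A)
  have hsmul : ∀ (H : (Spec A).Modules) (a : A) (x : moduleSpecΓFunctor.obj H),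
      a • x = (γ.inv a • (show Γ(H, ⊤) from x) : Γ(H, ⊤)) := fun H a x =>
    (Scheme.Modules.smul_Spec_def a _).trans (congrArg (· • (show Γ(H, ⊤) from x)) (ro_self _ _))
  let cmap : Fin n → (M ⟶ moduleSpecΓFunctor.obj G) := fun i => ModuleCat.ofHom (Y := moduleSpecΓFunctor.obj G)
    { toFun := fun m => (γ.inv (bas.repr m i) : Γ(Spec A, ⊤))
      map_add' := fun x y => by rw [map_add, Finsupp.add_apply]; exact map_add γ.inv.hom _ _
      map_smul' := fun r x => by
        rw [map_smul, Finsupp.smul_apply, RingHom.id_apply]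
        exact (map_mul γ.inv.hom _ _).trans (hsmul G r _).symm }
  let bm : Fin n → (tilde M ⟶ G) := fun i => (adj.homEquiv M G).symm (cmap i)
  let am : Fin n → (G ⟶ tilde M) := fun i =>
    Groth.L16.homOfSection (tilde M) (tilde.toOpen M ⊤ (bas i))
  have hbm : ∀ i (m : M), (bm i).app ⊤ (tilde.toOpen M ⊤ m) = (γ.inv (bas.repr m i) : Γ(Spec A, ⊤)) := fun i m => by
    show (adj.homEquiv M G) (bm i) m = _
    rw [Equiv.apply_symm_apply]
    rfl
  have ham : ∀ i (r : Γ(Spec A, ⊤)), (am i).app ⊤ r = r • (show Γ(tilde M, ⊤) from tilde.toOpen M ⊤ (bas i)) :=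
    fun i r => (Groth.L16.homOfSection_app _ _ ⊤ r).trans (congrArg (r • ·) (rs_self _ _ _))
  have hab : ∀ i j, am i ≫ bm j = if i = j then 𝟙 _ else 0 := fun i j => by
    have key : ∀ φ ψ : G ⟶ G, φ.app ⊤ (1 : Γ(Spec A, ⊤)) = ψ.app ⊤ (1 : Γ(Spec A, ⊤)) → φ = ψ := by
      intro φ ψ h
      refine Scheme.Modules.hom_ext _ _ fun W => ConcreteCategory.hom_ext _ _ fun r => ?_
      exact (Groth.L16.hom_app_eq_smul φ W r).trans ((congrArg (fun z => r • rs G le_top z) h).trans
        (Groth.L16.hom_app_eq_smul ψ W r).symm)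
    refine key _ _ ?_
    show (bm j).app ⊤ ((am i).app ⊤ (1 : Γ(Spec A, ⊤))) = _
    rw [ham, one_smul, hbm, Module.Basis.repr_self, Finsupp.single_apply]
    split_ifs
    · exact map_one γ.inv.hom
    · exact map_zero γ.inv.hom
  have hba : ∑ i, bm i ≫ am i = 𝟙 (tilde M) := by
    refine (adj.homEquiv M (tilde M)).injective ?_
    ext m
    show (∑ i, bm i ≫ am i).app ⊤ (tilde.toOpen M ⊤ m) = (𝟙 (tilde M) : tilde M ⟶ tilde M).app ⊤ (tilde.toOpen M ⊤ m)
    rw [Groth.L17.FinLocBases.app_sum]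
    refine Eq.trans ?_ (congrArg (fun z => (show Γ(tilde M, ⊤) from tilde.toOpen M ⊤ z)) (bas.sum_repr m))
    show _ = (tilde.toOpen M ⊤).hom (∑ i, bas.repr m i • bas i)
    rw [map_sum]
    refine Finset.sum_congr rfl fun i _ => ?_
    show (am i).app ⊤ ((bm i).app ⊤ (tilde.toOpen M ⊤ m)) = _
    rw [hbm, ham]
    refine Eq.trans ?_ ((tilde.toOpen M ⊤).hom.map_smul _ _).symm
    exact (hsmul _ _ _).symm
  intro V h
  have := Groth.L17.FinLocBases.bijective_lc am bm hab hba V
  refine Eq.mp (congrArg Function.Bijective (funext fun r => Finset.sum_congr rfl fun i _ => ?_)) this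
  refine congrArg (r i • ·) (congrArg (rs (tilde M) le_top) ?_)
  exact (ham i (1 : Γ(Spec A, ⊤))).trans (one_smul _ _)

theorem isBasisOn_of_iso {X : Scheme.{u}} {M N : X.Modules} (e : M ≅ N) {W : X.Opens} {n : ℕ}
    {b : Fin n → Γ(M, W)} (hb : IsBasisOn M W b) : IsBasisOn N W fun i => e.hom.app W (b i) := fun V h => by
  rw [show lc N (fun i => e.hom.app W (b i)) h = e.hom.app V ∘ lc M b h from
    funext fun c => (app_lc e.hom b h c).symm]
  exact (ConcreteCategory.bijective_of_isIso (e.hom.app V)).comp (hb V h)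

theorem isBasisOn_of_restrict {X Y : Scheme.{u}} (j : Y ⟶ X) [IsOpenImmersion j] {M : X.Modules} {n : ℕ}
    {c : Fin n → Γ(M, j ''ᵁ ⊤)} (hc : IsBasisOn (M.restrict j) ⊤ c) : IsBasisOn M (j ''ᵁ ⊤) c := by
  intro V h
  obtain ⟨V, rfl⟩ : ∃ V' : Y.Opens, j ''ᵁ V' = V := ⟨j ⁻¹ᵁ V, by
    rw [Scheme.Hom.image_preimage_eq_opensRange_inf, inf_eq_right]
    exact h.trans (Scheme.Hom.image_top_eq_opensRange j).le⟩
  let ee := (j.appIso V).commRingCatIsoToRingEquiv
  refine (Function.Bijective.of_comp_iff _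
    (Equiv.piCongrRight fun _ : Fin n => ee.symm.toEquiv).bijective).1 ?_
  refine Eq.mp (congrArg Function.Bijective ?_) (hc V le_top)
  funext r
  refine Finset.sum_congr rfl fun i _ => ?_
  rfl

variable {S P : Scheme.{u}} {p : P ⟶ S} {F : S.Modules} {O1 : P.Modules}
  {u : (Scheme.Modules.pullback p).obj F ⟶ O1} {V : S.Opens} {n : ℕ} {b : Fin n → Γ(F, V)}

/-- On a locus the differentials of the coordinates form a basis. -/
theorem isBasisOn_differential (hPB : KRR.IsProjBundle p F O1 u) (hb : IsBasisOn F V b) (hV : IsAffineOpen V)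
    {Ω : P.Modules} {d : _root_.OmegaSh.Der p Ω} (hd : _root_.OmegaSh.IsUniversal d) (l : Fin n)
    {m : ℕ} (σ : Fin m ≃ {i : Fin n // i ≠ l}) :
    IsBasisOn Ω (locus p u b l) fun k => d.app (locus p u b l) (crd p u b l (σ k).1) := by
  obtain ⟨j, hj, hW, hr, hjp, hjr⟩ := exists_chart hPB hb hV l
  obtain ⟨e, he⟩ := Groth.L19.OmegaSh.exists_chart hd (R := Γ(S, V)) (A := Acrd V l) j hV.fromSpec
    (by rw [MvPolynomial.algebraMap_eq]; exact hjp.symm)
  let bas := (KaehlerDifferential.mvPolynomialBasis Γ(S, V) {i : Fin n // i ≠ l}).reindex σ.symm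
  have hbas : ∀ k, bas k = KaehlerDifferential.D Γ(S, V) (Acrd V l) (MvPolynomial.X (σ k)) := fun k => by
    rw [Module.Basis.reindex_apply, Equiv.symm_symm]
    exact KaehlerDifferential.mvPolynomialBasis_apply _ _ _
  have h1 := isBasisOn_of_iso e.symm
    (isBasisOn_tilde (A := CommRingCat.of (Acrd V l)) (ModuleCat.of (Acrd V l) Ω[Acrd V l⁄Γ(S, V)]) bas)
  have h2 : ∀ k, (Groth.L19.OmegaSh.resDer j d).app ⊤
      ((Scheme.ΓSpecIso (CommRingCat.of (Acrd V l))).inv (MvPolynomial.X (σ k))) =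
      e.inv.app ⊤ (tilde.toOpen (R := CommRingCat.of (Acrd V l))
        (ModuleCat.of (Acrd V l) Ω[Acrd V l⁄Γ(S, V)]) ⊤ (bas k)) := fun k => by
    rw [hbas]
    exact (congr($(e.hom_inv_id).app ⊤ _)).symm.trans (congrArg (e.inv.app ⊤) (he _))
  have h3 : IsBasisOn Ω (j ''ᵁ ⊤) fun k => d.app (j ''ᵁ ⊤)
      ((j.appIso ⊤).inv ((Scheme.ΓSpecIso (CommRingCat.of (Acrd V l))).inv (MvPolynomial.X (σ k)))) :=
    isBasisOn_of_restrict j (funext h2 ▸ h1)
  have hle : j ''ᵁ ⊤ ≤ locus p u b l := ((Scheme.Hom.image_top_eq_opensRange j).trans hr).le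
  have h4 : ∀ k, d.app (j ''ᵁ ⊤)
      ((j.appIso ⊤).inv ((Scheme.ΓSpecIso (CommRingCat.of (Acrd V l))).inv (MvPolynomial.X (σ k)))) =
      rs Ω hle (d.app _ (crd p u b l (σ k).1)) := fun k => by
    rw [← ratio_ne V (σ k), ← hjr, ← Groth.L19.OmegaSh.der_map]
    refine congrArg (d.app _) ?_
    exact congr($(Scheme.Hom.appLE_appIso_inv j hW) (crd p u b l (σ k).1))
  rw [funext h4] at h3
  have hge : locus p u b l ≤ j ''ᵁ ⊤ := ((Scheme.Hom.image_top_eq_opensRange j).trans hr).ge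
  have h5 := h3.mono hge
  simp only [rs_rs, rs_self] at h5
  exact h5

end Groth.L19.ProjBdl
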