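import Groth.Agent.L18.Frame
import Mathlib.AlgebraicGeometry.Modules.Sheaf
import Mathlib.CategoryTheory.Limits.Preserves.Shapes.Kernels
import Mathlib.CategoryTheory.Limits.FunctorCategory.Finite
import Mathlib.Algebra.Category.Grp.Limits
import Mathlib.Algebra.Category.Grp.EpiMono
import Groth.Agent.L21.Mod.Stalks

/-!
# Sections of a kernel
-/

set_option autoImplicit false
set_option linter.style.haveILetI false
set_option backward.isDefEq.respectTransparency.types false
set_option backward.isDefEq.respectTransparency false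

universe u

open CategoryTheory CategoryTheory.Limits AlgebraicGeometry TopologicalSpace Opposite

noncomputable section

namespace Groth.L19.ProjBdl

variable {X : Scheme.{u}}

/-- Sections on an open. -/
abbrev sectF (W : X.Opens) : X.Modules ⥤ AddCommGrpCat.{u} :=
  Scheme.Modules.toPresheaf X ⋙ (evaluation _ _).obj (op W)

instance (W : X.Opens) : PreservesFiniteLimits (sectF W) := by
  haveI : PreservesLimitsOfSize.{0, 0} (Scheme.Modules.toPresheaf X) := preservesLimitsOfSize_shrink.{0, u, 0, u} _
  haveI : PreservesFiniteLimits (Scheme.Modules.toPresheaf X) := PreservesLimitsOfSize.preservesFiniteLimits _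
  haveI : HasFiniteLimits AddCommGrpCat.{u} :=
    hasFiniteLimits_of_hasLimitsOfSize.{0, 0} _
  haveI : PreservesFiniteLimits ((evaluation (Opens X)ᵒᵖ AddCommGrpCat.{u}).obj (op W)) := inferInstance
  exact comp_preservesFiniteLimits _ _

theorem injective_app_of_mono {M N : X.Modules} (φ : M ⟶ N) [Mono φ] (W : X.Opens) :
    Function.Injective (φ.app W) := by
  haveI : (sectF W).PreservesMonomorphisms := inferInstance
  exact (AddCommGrpCat.mono_iff_injective ((sectF W).map φ)).1 inferInstance

theorem app_ι_kernel {M N : X.Modules} (φ : M ⟶ N) (W : X.Opens) (k : Γ(kernel φ, W)) :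
    φ.app W ((kernel.ι φ).app W k) = 0 :=
  (congr($(kernel.condition φ).app W k)).trans rfl

theorem exists_kernel_app {M N : X.Modules} (φ : M ⟶ N) (W : X.Opens) {s : Γ(M, W)} (hs : φ.app W s = 0) :
    ∃ k : Γ(kernel φ, W), (kernel.ι φ).app W k = s := by
  let hk := (KernelFork.ofι (kernel.ι φ) (kernel.condition φ)).mapIsLimit (kernelIsKernel φ) (sectF W)
  let t : AddCommGrpCat.of (ULift.{u} ℤ) ⟶ (sectF W).obj M :=
    AddCommGrpCat.ofHom ((zmultiplesHom _ s).comp AddEquiv.ulift.toAddMonoidHom)
  have ht : t ≫ (sectF W).map φ = 0 := by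
    ext x
    show φ.app W (x.down • s) = 0
    rw [map_zsmul, hs, zsmul_zero]
  obtain ⟨k, hk'⟩ := KernelFork.IsLimit.lift' hk t ht
  refine ⟨k (ULift.up 1), ?_⟩
  exact (congr($hk' (ULift.up 1))).trans (one_zsmul s)

end Groth.L19.ProjBdl
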