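import Groth.Agent.L19.ProjBdl.Diff
import Groth.Agent.L19.ProjBdl.TensFrame
import Groth.Agent.L19.ProjBdl.KerSect

/-!
# The Euler sequence of a projective bundle
-/

set_option autoImplicit false
set_option linter.unusedVariables false
set_option linter.style.haveILetI false
set_option backward.isDefEq.respectTransparency.types false
set_option backward.isDefEq.respectTransparency false

universe u

open CategoryTheory CategoryTheory.Limits AlgebraicGeometry TopologicalSpace Opposite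

noncomputable section

namespace Groth.L19.ProjBdl

open Groth.L18.Frame (rs ro rs_rs ro_ro rs_smul ro_self rs_self IsFrame pull pull_rs pull_smul)
open Groth.L18.GenLoc (tens tens_rs tens_smul_left tens_smul_right)
open Groth.L19.OmegaSh (der_map der_mul der_appLE)

variable {S P : Scheme.{u}} {p : P ⟶ S} {F : S.Modules} {O1 : P.Modules}
  {u : (Scheme.Modules.pullback p).obj F ⟶ O1} {Ω : P.Modules} (d : _root_.OmegaSh.Der p Ω)
  {V : S.Opens} {n : ℕ} {b : Fin n → Γ(F, V)}

variable (u) in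
/-- `∑ aᵢ bᵢ ↦ ∑ d aᵢ ⊗ u bᵢ`. -/
def val (hb : IsBasisOn F V b) {W : P.Opens} (hW : W ≤ p ⁻¹ᵁ V) (s : Γ((Scheme.Modules.pullback p).obj F, W)) :
    Γ(CohB1.tensorMod Ω O1, W) :=
  ∑ i, tens Ω O1 W (d.app W (coord (hb.pullback p) hW s i)) (rs O1 hW (sec p u b i))

theorem val_rs (hb : IsBasisOn F V b) {W W' : P.Opens} (hW : W ≤ p ⁻¹ᵁ V) (h : W' ≤ W)
    (s : Γ((Scheme.Modules.pullback p).obj F, W)) :
    val u d hb (h.trans hW) (rs _ h s) = rs _ h (val u d hb hW s) := by
  refine Eq.trans (Finset.sum_congr rfl fun i _ => ?_) (rs_sum _ h _ _).symm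
  rw [coord_rs (hb.pullback p) hW h s, tens_rs, rs_rs, ← der_map]

theorem coord_add (hb : IsBasisOn F V b) {W : S.Opens} (hW : W ≤ V) (s t : Γ(F, W)) :
    coord hb hW (s + t) = coord hb hW s + coord hb hW t := coord_eq hb _ (by
  conv_rhs => rw [← lc_coord hb hW s, ← lc_coord hb hW t]
  simp only [lc, Pi.add_apply, add_smul, Finset.sum_add_distrib])

theorem coord_smul (hb : IsBasisOn F V b) {W : S.Opens} (hW : W ≤ V) (r : Γ(S, W)) (s : Γ(F, W)) :
    coord hb hW (r • s) = fun i => r * coord hb hW s i := coord_eq hb _ (by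
  conv_rhs => rw [← lc_coord hb hW s]
  simp only [lc, Finset.smul_sum, mul_smul])

theorem u_eq (hb : IsBasisOn F V b) {W : P.Opens} (hW : W ≤ p ⁻¹ᵁ V) (s : Γ((Scheme.Modules.pullback p).obj F, W)) :
    u.app W s = ∑ i, coord (hb.pullback p) hW s i • rs O1 hW (sec p u b i) := by
  conv_lhs => rw [← lc_coord (hb.pullback p) hW s, app_lc]
  rfl

theorem val_add (hb : IsBasisOn F V b) {W : P.Opens} (hW : W ≤ p ⁻¹ᵁ V)
    (s t : Γ((Scheme.Modules.pullback p).obj F, W)) :
    val u d hb hW (s + t) = val u d hb hW s + val u d hb hW t := by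
  have e : coord (hb.pullback p) hW (s + t) = coord (hb.pullback p) hW s + coord (hb.pullback p) hW t :=
    coord_add (S := P) (hb.pullback p) hW s t
  simp only [val, e, Pi.add_apply, map_add, tens_add_left, Finset.sum_add_distrib]

theorem val_smul (hb : IsBasisOn F V b) {W : P.Opens} (hW : W ≤ p ⁻¹ᵁ V) (r : Γ(P, W))
    (s : Γ((Scheme.Modules.pullback p).obj F, W)) (hs : u.app W s = 0) :
    val u d hb hW (r • s) = r • val u d hb hW s := by
  have e : coord (hb.pullback p) hW (r • s) = fun i => r * coord (hb.pullback p) hW s i :=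
    coord_smul (S := P) (hb.pullback p) hW r s
  simp only [val, e, der_mul, tens_add_left, tens_smul_left, Finset.sum_add_distrib, ← Finset.smul_sum]
  have h0 : ∑ i, coord (hb.pullback p) hW s i • tens Ω O1 W (d.app W r) (rs O1 hW (sec p u b i)) = 0 := by
    simp only [← tens_smul_right]
    rw [show ∑ i, tens Ω O1 W (d.app W r) (coord (hb.pullback p) hW s i • rs O1 hW (sec p u b i)) =
      tens Ω O1 W (d.app W r) (∑ i, coord (hb.pullback p) hW s i • rs O1 hW (sec p u b i)) from
      (map_sum (AddMonoidHom.mk' (fun y => tens Ω O1 W (d.app W r) y) fun x y =>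
        Groth.L00.Tensor.ev_add₂ (Groth.L00.Tensor.unit _) (op W) _ x y) _ _).symm, ← u_eq hb hW s, hs]
    exact map_zero (AddMonoidHom.mk' (fun y => tens Ω O1 W (d.app W r) y) fun x y =>
        Groth.L00.Tensor.ev_add₂ (Groth.L00.Tensor.unit _) (op W) _ x y)
  rw [h0, add_zero]

/-- Independence of the basis. -/
theorem val_indep (hb : IsBasisOn F V b) {V' : S.Opens} {m : ℕ} {b' : Fin m → Γ(F, V')} (hb' : IsBasisOn F V' b')
    {W : P.Opens} (hW : W ≤ p ⁻¹ᵁ V) (hW' : W ≤ p ⁻¹ᵁ V') (s : Γ((Scheme.Modules.pullback p).obj F, W)) :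
    val u d hb hW s = val u d hb' hW' s := by
  let C : Fin m → Fin n → Γ(S, V ⊓ V') := fun k => coord hb inf_le_left (rs F inf_le_right (b' k))
  have hle : W ≤ p ⁻¹ᵁ (V ⊓ V') := fun x hx => ⟨hW hx, hW' hx⟩
  let C' : Fin m → Fin n → Γ(P, W) := fun k i => p.appLE (V ⊓ V') W hle (C k i)
  have hC : ∀ k, rs _ hW' (pull p F V' (b' k)) = ∑ i, C' k i • rs _ hW (pull p F V (b i)) := fun k => by
    have h1 := congrArg (fun t => rs _ hle (pull p F (V ⊓ V') t)) (lc_coord hb inf_le_left (rs F inf_le_right (b' k)))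
    rw [← pull_rs, rs_rs] at h1
    refine h1.symm.trans ?_
    have h2 : pull p F (V ⊓ V') (lc F b inf_le_left (C k)) =
        ∑ i, pull p F (V ⊓ V') (C k i • rs F inf_le_left (b i)) := map_sum _ _ _
    rw [h2, rs_sum]
    refine Finset.sum_congr rfl fun i _ => ?_
    rw [pull_smul, rs_smul, ← pull_rs, rs_rs]
    rfl
  have hσ : ∀ k, rs O1 hW' (sec p u b' k) = ∑ i, C' k i • rs O1 hW (sec p u b i) := fun k => by
    rw [sec, ← app_rs, hC k, map_sum]
    refine Finset.sum_congr rfl fun i _ => ?_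
    rw [Scheme.Modules.Hom.app_smul, app_rs]
    rfl
  set a := coord (hb'.pullback p) hW' s
  have hc : coord (hb.pullback p) hW s = fun i => ∑ k, a k * C' k i := coord_eq (hb.pullback p) hW (by
    conv_rhs => rw [← lc_coord (hb'.pullback p) hW' s]
    simp only [lc, hC, Finset.sum_smul, Finset.smul_sum, mul_smul]
    exact Finset.sum_comm)
  have hd : ∀ k i, d.app W (a k * C' k i) = C' k i • d.app W (a k) := fun k i => by
    rw [der_mul, der_appLE, smul_zero, zero_add]
  have htsum : ∀ (w : Γ(Ω, W)) (y : Fin n → Γ(O1, W)), tens Ω O1 W w (∑ i, y i) = ∑ i, tens Ω O1 W w (y i) :=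
    fun w y => map_sum (AddMonoidHom.mk' (fun y => tens Ω O1 W w y) fun x y =>
        Groth.L00.Tensor.ev_add₂ (Groth.L00.Tensor.unit _) (op W) _ x y) _ _
  simp only [val, hc, map_sum, hd, tens_sum_left, hσ, htsum, tens_smul_left, tens_smul_right]
  exact Finset.sum_comm

theorem sum_smul_der (hPB : KRR.IsProjBundle p F O1 u) (hb : IsBasisOn F V b) {W : P.Opens} {l : Fin n}
    (hW : W ≤ locus p u b l) (c : Fin n → Γ(P, W)) (hc : ∑ i, c i * ro hW (crd p u b l i) = 0) :
    ∑ i, ro hW (crd p u b l i) • d.app W (c i) = -∑ i, c i • d.app W (ro hW (crd p u b l i)) := by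
  rw [eq_neg_iff_add_eq_zero, ← Finset.sum_add_distrib]
  refine Eq.trans ?_ ((congrArg (d.app W) hc).trans (map_zero _))
  rw [map_sum]
  refine Finset.sum_congr rfl fun i _ => ?_
  rw [der_mul, add_comm]

theorem u_eq_locus (hb : IsBasisOn F V b) {W : P.Opens} {l : Fin n} (hW : W ≤ locus p u b l)
    (c : Fin n → Γ(P, W)) :
    u.app W (lc _ (fun i => pull p F V (b i)) (hW.trans (locus_le p u b l)) c) =
      (∑ i, c i * ro hW (crd p u b l i)) • rs O1 (hW.trans (locus_le p u b l)) (sec p u b l) := by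
  rw [app_lc, Finset.sum_smul]
  refine Finset.sum_congr rfl fun i _ => ?_
  have h := congrArg (rs O1 hW) (crd_smul p u b l i)
  rw [rs_smul, rs_rs, rs_rs] at h
  rw [mul_smul, h]
  rfl

theorem sum_eq_zero_of_kernel (hb : IsBasisOn F V b) {W : P.Opens} {l : Fin n} (hW : W ≤ locus p u b l)
    (k : Γ(kernel u, W)) :
    ∑ i, coord (hb.pullback p) (hW.trans (locus_le p u b l)) ((kernel.ι u).app W k) i * ro hW (crd p u b l i) = 0 := by
  refine (isFrame_locus p u b l).inj hW ?_
  rw [rs_rs, zero_smul, ← u_eq_locus hb hW, lc_coord]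
  exact app_ι_kernel u W k

theorem der_crd_self {W : P.Opens} {l : Fin n} (hW : W ≤ locus p u b l) :
    d.app W (ro hW (crd p u b l l)) = 0 := by
  rw [crd_self, show ro hW (1 : Γ(P, locus p u b l)) = 1 from map_one _]
  have h := der_mul d (1 : Γ(P, W)) 1
  rw [one_mul, one_smul] at h
  exact left_eq_add.mp h

/-- On a locus the map to `Ω ⊗ O(1)` is bijective on the kernel. -/
theorem bijective_val (hPB : KRR.IsProjBundle p F O1 u) (hb : IsBasisOn F V b) (hV : IsAffineOpen V)
    (hd : _root_.OmegaSh.IsUniversal d) {l : Fin n} {W : P.Opens} (hW : W ≤ locus p u b l) :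
    Function.Bijective fun k : Γ(kernel u, W) =>
      val u d hb (hW.trans (locus_le p u b l)) ((kernel.ι u).app W k) := by
  classical
  have hWV := hW.trans (locus_le p u b l)
  let σ := (Fintype.equivFin {i : Fin n // i ≠ l}).symm
  let bΩ := fun k => d.app (locus p u b l) (crd p u b l (σ k).1)
  have hΩ : IsBasisOn Ω (locus p u b l) bΩ := isBasisOn_differential hPB hb hV hd l σ
  have hsplit : ∀ {M : Type u} [AddCommMonoid M] (f : Fin n → M), ∑ i, f i = f l + ∑ k, f (σ k).1 := by
    intro M _ f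
    rw [← Finset.add_sum_erase _ _ (Finset.mem_univ l)]
    congr 1
    rw [Equiv.sum_comp σ (fun x : {i : Fin n // i ≠ l} => f x.1)]
    exact Finset.sum_subtype _ (fun x => by simp) f
  have hformula : ∀ k : Γ(kernel u, W), val u d hb hWV ((kernel.ι u).app W k) =
      tens Ω O1 W (-lc Ω bΩ hW fun j => coord (hb.pullback p) hWV ((kernel.ι u).app W k) (σ j).1)
        (rs O1 hWV (sec p u b l)) := by
    intro k
    set c := coord (hb.pullback p) hWV ((kernel.ι u).app W k)
    have h1 : val u d hb hWV ((kernel.ι u).app W k) =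
        tens Ω O1 W (∑ i, ro hW (crd p u b l i) • d.app W (c i)) (rs O1 hWV (sec p u b l)) := by
      rw [tens_sum_left]
      refine Finset.sum_congr rfl fun i _ => ?_
      rw [tens_smul_left, ← tens_smul_right]
      refine congrArg (tens Ω O1 W _) ?_
      have h := congrArg (rs O1 hW) (crd_smul p u b l i)
      rw [rs_smul, rs_rs, rs_rs] at h
      exact h.symm
    rw [h1, sum_smul_der d hPB hb hW c (sum_eq_zero_of_kernel hb hW k), hsplit, der_crd_self, smul_zero,
      zero_add]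
    refine congrArg (fun z => tens Ω O1 W (-z) (rs O1 hWV (sec p u b l))) ?_
    exact Finset.sum_congr rfl fun j _ => congrArg (_ • ·) (der_map d hW _)
  have hcoord : Function.Bijective fun k : Γ(kernel u, W) =>
      fun j => coord (hb.pullback p) hWV ((kernel.ι u).app W k) (σ j).1 := by
    refine ⟨fun k k' h => injective_app_of_mono (kernel.ι u) W ?_, fun c' => ?_⟩
    · rw [← lc_coord (hb.pullback p) hWV ((kernel.ι u).app W k), ← lc_coord (hb.pullback p) hWV ((kernel.ι u).app W k')]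
      refine congrArg _ (funext fun i => ?_)
      by_cases hi : i = l
      · subst hi
        have hk := sum_eq_zero_of_kernel hb hW k
        have hk' := sum_eq_zero_of_kernel hb hW k'
        rw [hsplit, crd_self, show ro hW (1 : Γ(P, locus p u b i)) = 1 from map_one _, mul_one] at hk hk'
        rw [eq_neg_of_add_eq_zero_left hk, eq_neg_of_add_eq_zero_left hk']
        exact congrArg _ (Finset.sum_congr rfl fun j _ => congrArg (· * _) (congrFun h j))
      · simpa using congrFun h (σ.symm ⟨i, hi⟩)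
    · let c : Fin n → Γ(P, W) := fun i =>
        if hi : i = l then -∑ j, c' j * ro hW (crd p u b l (σ j).1) else c' (σ.symm ⟨i, hi⟩)
      have hcl : c l = -∑ j, c' j * ro hW (crd p u b l (σ j).1) := dif_pos rfl
      have hcj : ∀ j, c (σ j).1 = c' j := fun j => by
        simp only [c, dif_neg (σ j).2, Subtype.coe_eta, Equiv.symm_apply_apply]
      have hu0 : u.app W (lc _ (fun i => pull p F V (b i)) hWV c) = 0 := by
        rw [u_eq_locus hb hW, hsplit, crd_self, show ro hW (1 : Γ(P, locus p u b l)) = 1 from map_one _,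
          mul_one, hcl]
        simp only [hcj, neg_add_cancel, zero_smul]
      obtain ⟨k, hk⟩ := exists_kernel_app u W hu0
      refine ⟨k, funext fun j => ?_⟩
      show coord (hb.pullback p) hWV ((kernel.ι u).app W k) (σ j).1 = c' j
      rw [hk, coord_eq (hb.pullback p) hWV rfl, hcj]
  have hτ : IsFrame O1 W (rs O1 hWV (sec p u b l)) := by
    have := (isFrame_locus p u b l).mono hW
    rwa [rs_rs] at this
  rw [show (fun k : Γ(kernel u, W) => val u d hb (hW.trans (locus_le p u b l)) ((kernel.ι u).app W k)) =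
      (fun w => tens Ω O1 W w (rs O1 hWV (sec p u b l))) ∘ (fun w => -w) ∘ lc Ω bΩ hW ∘
        fun k : Γ(kernel u, W) => fun j => coord (hb.pullback p) hWV ((kernel.ι u).app W k) (σ j).1 from
    funext hformula]
  refine Function.Bijective.comp ?_ (neg_bijective.comp ((hΩ W hW).comp hcoord))
  have h2 := bijective_tens_frame (M := Ω) hτ (le_refl W)
  rwa [rs_self] at h2

/-- The Euler sequence. -/
theorem nonempty_iso_kernel (hF : FlatMod.IsFinLocFree F) (hPB : KRR.IsProjBundle p F O1 u)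
    (hd : _root_.OmegaSh.IsUniversal d) : Nonempty (CohB1.tensorMod Ω O1 ≅ kernel u) := by
  classical
  haveI := hPB.epi
  let K := kernel u
  let T := CohB1.tensorMod Ω O1
  let Pr : P.affineOpens → Prop := fun U =>
    ∃ (V : S.Opens) (n : ℕ) (b : Fin n → Γ(F, V)) (_ : IsBasisOn F V b), U.1 ≤ p ⁻¹ᵁ V
  have hPr : ∀ (x : P) (O : P.Opens), x ∈ O → ∃ U, Pr U ∧ x ∈ U.1 ∧ U.1 ≤ O := fun x O hx => by
    obtain ⟨V, n, b, -, hxV, -, hb⟩ := exists_basisOn hF (p x) ⊤ trivial
    obtain ⟨_, ⟨U, hU, rfl⟩, hxU, hUO⟩ :=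
      P.isBasis_affineOpens.exists_subset_of_mem_open (show x ∈ O ⊓ p ⁻¹ᵁ V from ⟨hx, hxV⟩) (O ⊓ p ⁻¹ᵁ V).2
    exact ⟨⟨U, hU⟩, ⟨V, n, b, hb, fun y hy => (hUO hy).2⟩, hxU, fun y hy => (hUO hy).1⟩
  choose Vc nc bc hbc hle using fun (U : P.affineOpens) (h : Pr U) => h
  let m : ∀ (Z : P.Opens) (_ : Γ(K, Z)) (U : P.affineOpens), Pr U → U.1 ≤ Z → Γ(T, U.1) :=
    fun Z k U h hZ => val u d (hbc U h) (hle U h) ((kernel.ι u).app U.1 (rs K hZ k))
  have hm : ∀ (Z : P.Opens) (k : Γ(K, Z)), ∃! t : Γ(T, Z), ∀ (U : P.affineOpens) (h : Pr U) (hZ : U.1 ≤ Z),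
      rs T hZ t = m Z k U h hZ := fun Z k =>
    Groth.L19.OmegaSh.existsUnique_glue T Pr hPr Z (m Z k) fun U U' h h' hZ hZ' hUU' => by
      show rs T hUU' (val u d (hbc U h) (hle U h) ((kernel.ι u).app U.1 (rs K hZ k))) = _
      rw [← val_rs, ← app_rs, rs_rs]
      exact val_indep d _ _ _ _ _
  choose φf hφf hφu using hm
  have key : ∀ {Z : P.Opens} (k : Γ(K, Z)) {V : S.Opens} {n : ℕ} {b : Fin n → Γ(F, V)} (hb : IsBasisOn F V b)
      (hZ : Z ≤ p ⁻¹ᵁ V), φf Z k = val u d hb hZ ((kernel.ι u).app Z k) := fun {Z} k {V n b} hb hZ =>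
    (hφu Z k _ fun U h hUZ => by
      rw [← val_rs, ← app_rs]
      exact val_indep d _ _ _ _ _).symm
  have hadd : ∀ Z (k k' : Γ(K, Z)), φf Z (k + k') = φf Z k + φf Z k' := fun Z k k' =>
    (hφu Z (k + k') _ fun U h hUZ => by
      refine (map_add _ _ _).trans ?_
      show rs T hUZ (φf Z k) + rs T hUZ (φf Z k') = _
      rw [hφf Z k U h hUZ, hφf Z k' U h hUZ]
      simp only [m]
      rw [← val_add, ← map_add]
      exact congrArg (fun z => val u d (hbc U h) (hle U h) ((kernel.ι u).app U.1 z)) (map_add _ _ _).symm).symm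
  have hsmul : ∀ Z (r : Γ(P, Z)) (k : Γ(K, Z)), φf Z (r • k) = r • φf Z k := fun Z r k =>
    (hφu Z (r • k) _ fun U h hUZ => by
      rw [rs_smul, hφf Z k U h hUZ]
      simp only [m]
      rw [rs_smul, Scheme.Modules.Hom.app_smul]
      exact (val_smul d _ _ _ _ (app_ι_kernel u _ _)).symm).symm
  have hnat : ∀ {Z Z' : P.Opens} (h : Z' ≤ Z) (k : Γ(K, Z)), φf Z' (rs K h k) = rs T h (φf Z k) := fun {Z Z'} h k =>
    (hφu Z' (rs K h k) _ fun U hU hUZ => by
      rw [rs_rs, hφf Z k U hU (hUZ.trans h)]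
      simp only [m, rs_rs]).symm
  let φ : K ⟶ T := ⟨PresheafOfModules.homMk
    { app := fun Z => AddCommGrpCat.ofHom (AddMonoidHom.mk' (fun (k : Γ(K, Z.unop)) => (φf Z.unop k : Γ(T, Z.unop)))
        (hadd Z.unop))
      naturality := fun {Z₁ Z₂} i => by
        ext k
        exact hnat i.unop.le k }
    fun Z r k => hsmul Z.unop r k⟩
  have happ : ∀ Z (k : Γ(K, Z)), φ.app Z k = φf Z k := fun Z k => rfl
  let J := {W : P.Opens // ∀ W' : P.Opens, W' ≤ W → Function.Bijective (φ.app W')}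
  haveI : IsIso φ := Groth.L18.IsoCover.isIso_of_bijective φ (fun k : J => k.1) (fun x => by
    obtain ⟨V, n, b, hV, hxV, -, hb⟩ := exists_basisOn hF (p x) ⊤ trivial
    obtain ⟨l, hl⟩ := exists_mem_locus p u b hPB.invertible hb (show x ∈ p ⁻¹ᵁ V from hxV)
    refine ⟨⟨locus p u b l, fun W' hW' => ?_⟩, hl⟩
    have e : (fun k : Γ(K, W') => φ.app W' k) =
        fun k => val u d hb (hW'.trans (locus_le p u b l)) ((kernel.ι u).app W' k) :=
      funext fun k => (happ W' k).trans (key k hb _)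
    show Function.Bijective fun k : Γ(K, W') => φ.app W' k
    rw [e]
    exact bijective_val d hPB hb hV hd hW') fun k W' hW' => k.2 W' hW'
  exact ⟨(asIso φ).symm⟩

end Groth.L19.ProjBdl
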